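import Groth.Agent.H17.FibProj.SectApply
import Groth.Agent.H17.FibProj.ClosedFib
import Groth.Agent.H12Pic.PicCurve.RelDimFibres

/-!
# Families of genus zero curves with a section
-/

set_option autoImplicit false
set_option linter.style.haveILetI false
set_option backward.isDefEq.respectTransparency false
universe u

open CategoryTheory CategoryTheory.Limits AlgebraicGeometry TopologicalSpace
open Groth.Agent Groth.Agent.H22Alg

noncomputable section

namespace Groth.Agent.H17.FibProj

attribute [local instance 10000] H10Coh.hasSheafifyAb H10Coh.hasWeakSheafifyAb H10Coh.hasExtAb H10Coh.enoughInjAb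

variable {C B : Scheme.{u}}

/-- Facts on the base change along a geometric point descend to the fibre. -/
theorem fibre_facts_point (f : C ⟶ B) [IsProper f] (b : B) (Ω : Type u) [Field Ω] [Algebra (B.residueField b) Ω]
    (x : Spec (CommRingCat.of Ω) ⟶ B)
    (hx : Spec.map (CommRingCat.ofHom (algebraMap (B.residueField b) Ω)) ≫ B.fromSpecResidueField b = x)
    (hZ : IsIntegral (pullback f x)) (hdZ : topologicalKrullDim ↥(pullback f x) = 1)
    (hgZ : @Curv2.genus Ω _ (pullback f x) ⟨pullback.snd f x⟩ = 0) :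
    letI : (f.fiber b).Over (Spec (CommRingCat.of (B.residueField b))) := ⟨f.fiberToSpecResidueField b⟩
    IsIntegral (f.fiber b) ∧ topologicalKrullDim ↥(f.fiber b) = 1 ∧
      Curv2.genus (B.residueField b) (f.fiber b) = 0 := by
  subst hx
  let κ : Type u := B.residueField b
  let q : f.fiber b ⟶ Spec (CommRingCat.of κ) := f.fiberToSpecResidueField b
  let m := Spec.map (CommRingCat.ofHom (algebraMap κ Ω))
  have hX : IsPullback (f.fiberι b) q f (B.fromSpecResidueField b) :=
    IsPullback.of_hasPullback f (B.fromSpecResidueField b)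
  let a := ((IsPullback.of_hasPullback q m).paste_horiz hX).isoPullback
  have ha : a.hom ≫ pullback.snd f (m ≫ B.fromSpecResidueField b) = pullback.snd q m :=
    IsPullback.isoPullback_hom_snd _
  letI : (pullback q m).Over (Spec (CommRingCat.of Ω)) := ⟨pullback.snd q m⟩
  letI : (pullback f (m ≫ B.fromSpecResidueField b)).Over (Spec (CommRingCat.of Ω)) := ⟨pullback.snd f _⟩
  haveI : IsIntegral (pullback f (m ≫ B.fromSpecResidueField b)) := hZ
  haveI : Nonempty (pullback q m : Scheme.{u}) := ⟨a.inv (genericPoint (pullback f (m ≫ B.fromSpecResidueField b) : Scheme.{u}))⟩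
  exact fibre_facts_of f b Ω (isIntegral_of_isOpenImmersion a.hom)
    ((Scheme.homeoOfIso a).isHomeomorph.topologicalKrullDim_eq.trans hdZ)
    ((H29DoubleCover.genus_congr (k := Ω) a ha).trans hgZ)

/-- A smooth proper family of genus zero curves with a section is a projective bundle. -/
theorem exists_fibTwist_of_genus_zero (f : C ⟶ B) [IsProper f] [Smooth f]
    (hfacts : ∀ b : B, letI : (f.fiber b).Over (Spec (CommRingCat.of (B.residueField b))) := ⟨f.fiberToSpecResidueField b⟩
      IsIntegral (f.fiber b) ∧ topologicalKrullDim ↥(f.fiber b) = 1 ∧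
        Curv2.genus (B.residueField b) (f.fiber b) = 0)
    (σ : B ⟶ C) (hσ : σ ≫ f = 𝟙 B) :
    ∃ L : C.Modules, PicF.IsInvertible L ∧ FibTwist 1 f L Set.univ := by
  haveI : SmoothOfRelativeDimension 1 f :=
    H12Pic.PicCurve.smoothOfRelativeDimension_of_fibres f 1
      (fun b => haveI := (hfacts b).1; inferInstance) (fun b => by rw [(hfacts b).2.1]; rfl)
  obtain ⟨L, hL, eL⟩ := exists_sectionMod f σ hσ
  exact ⟨L, hL, FibTwist.of_forall fun b =>
    fibAt_of_section f σ hσ hL eL b (hfacts b).1 (hfacts b).2.1 (hfacts b).2.2⟩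

/-- Over an affine open on which the direct image is free the family is a projective space. -/
theorem exists_iso_projSpace_of_le {r : ℕ} {f : C ⟶ B} [IsProper f] [Flat f] [LocallyOfFinitePresentation f]
    {L : C.Modules} (hL : PicF.IsInvertible L) {S : Set B} (h : FibTwist r f L S) {U : B.Opens}
    (e : ((Scheme.Modules.pushforward f).obj L).restrict U.ι ≅ FlatMod.freeMod (↑U : Scheme.{u}) (r + 1))
    (R : Type u) [CommRing R] (i : Spec (CommRingCat.of R) ⟶ B) (hsub : ∀ z, i z ∈ U) :
    ∃ e : pullback f i ≅ CohB1.ProjSpace r R, e.hom ≫ CohB1.ProjSpace.toSpec r R = pullback.snd f i := by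
  obtain ⟨j, hj, hjw, hjr, -⟩ := exists_chart_mt (isProjBundle hL h) e
  let ψ := IsOpenImmersion.lift U.ι i (by
    rw [Scheme.Opens.range_ι]; rintro _ ⟨z, rfl⟩; exact hsub z)
  have hψ : ψ ≫ U.ι = i := IsOpenImmersion.lift_fac _ _ _
  have hsq : IsPullback (KRR.projSpaceMap r ψ ≫ j) (KRR.pr r (Spec (CommRingCat.of R))) f i := by
    rw [← hψ]
    exact (KBaseChangeCl.isPullback_map ψ).paste_horiz (H3Cyc.PBundle.chart_isPullback U j hjw hjr)
  obtain ⟨a, ha, hapr, -⟩ := PB.exists_affine_iso r R
  haveI := ha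
  refine ⟨hsq.isoPullback.symm ≪≫ (asIso a).symm, ?_⟩
  simp only [Iso.trans_hom, Iso.symm_hom, asIso_inv, Category.assoc]
  rw [← hapr, IsIso.inv_hom_id_assoc]
  exact hsq.isoPullback_inv_snd

theorem exists_iso_projSpace {r : ℕ} {f : C ⟶ B} [IsProper f] [Flat f] [LocallyOfFinitePresentation f]
    {L : C.Modules} (hL : PicF.IsInvertible L) {S : Set B} (h : FibTwist r f L S) (b : B) :
    ∃ (R : Type u) (_ : CommRing R) (i : Spec (CommRingCat.of R) ⟶ B), IsOpenImmersion i ∧ b ∈ Set.range i.base ∧
      ∃ e : pullback f i ≅ CohB1.ProjSpace r R, e.hom ≫ CohB1.ProjSpace.toSpec r R = pullback.snd f i := by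
  obtain ⟨U, hbU, ⟨e⟩⟩ := rank_push hL h b
  obtain ⟨V, hV, hbV, hle⟩ := exists_isAffineOpen_mem_and_subset (x := b) (U := U) hbU
  exact ⟨Γ(B, V), inferInstance, hV.fromSpec, inferInstance, hV.range_fromSpec.ge hbV,
    exists_iso_projSpace_of_le hL h e _ hV.fromSpec fun z => hle (hV.range_fromSpec.le ⟨z, rfl⟩)⟩

end Groth.Agent.H17.FibProj
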