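import Groth.Agent.H17.FibProj.Main
import Groth.Agent.H12Pic.CurveFam.ComapIdeal
import Groth.Agent.H12Pic.CurveFam.PointFamily
import Groth.Agent.H29GenusZero.Basic
import Groth.Agent.H29DoubleCover.Separable
import Groth.Agent.H28Curve.ProjLine
import Groth.Agent.H13AlgSp.FibreRed
import Groth.Agent.H19Grp.RegularSmooth
import Groth.Agent.S4642

/-!
# Smooth families of lines with a section
-/

set_option autoImplicit false
set_option linter.style.haveILetI false
set_option backward.isDefEq.respectTransparency false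
universe u

open CategoryTheory CategoryTheory.Limits AlgebraicGeometry TopologicalSpace
open Groth.Agent Groth.Agent.H29RR

noncomputable section

namespace Groth.Agent.H17.FibProj

attribute [local instance 10000] H10Coh.hasSheafifyAb H10Coh.hasWeakSheafifyAb H10Coh.hasExtAb H10Coh.enoughInjAb

variable {C B : Scheme.{u}}

/-- Facts on a geometric fibre descend to the fibre over the residue field. -/
theorem fibre_facts_of (f : C ⟶ B) [IsProper f] (b : B) (Ω : Type u) [Field Ω] [Algebra (B.residueField b) Ω]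
    (hZ : IsIntegral (pullback (f.fiberToSpecResidueField b)
      (Spec.map (CommRingCat.ofHom (algebraMap (B.residueField b) Ω)))))
    (hdZ : topologicalKrullDim ↥(pullback (f.fiberToSpecResidueField b)
      (Spec.map (CommRingCat.ofHom (algebraMap (B.residueField b) Ω)))) = 1)
    (hgZ : @Curv2.genus Ω _ (pullback (f.fiberToSpecResidueField b)
      (Spec.map (CommRingCat.ofHom (algebraMap (B.residueField b) Ω)))) ⟨pullback.snd _ _⟩ = 0) :
    letI : (f.fiber b).Over (Spec (CommRingCat.of (B.residueField b))) := ⟨f.fiberToSpecResidueField b⟩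
    IsIntegral (f.fiber b) ∧ topologicalKrullDim ↥(f.fiber b) = 1 ∧
      Curv2.genus (B.residueField b) (f.fiber b) = 0 := by
  let κ : Type u := B.residueField b
  let q : f.fiber b ⟶ Spec (CommRingCat.of κ) := f.fiberToSpecResidueField b
  letI : (f.fiber b).Over (Spec (CommRingCat.of κ)) := ⟨q⟩
  haveI : IsProper q := inferInstanceAs (IsProper (pullback.snd f _))
  haveI : IsProper ((f.fiber b) ↘ Spec (CommRingCat.of κ)) := ‹IsProper q›
  let m := Spec.map (CommRingCat.ofHom (algebraMap κ Ω))
  let Z := pullback q m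
  letI : Z.Over (Spec (CommRingCat.of Ω)) := ⟨pullback.snd q m⟩
  have hsq : IsPullback (pullback.fst q m) (Z ↘ Spec (CommRingCat.of Ω)) q m := IsPullback.of_hasPullback q m
  haveI : IsProper (Z ↘ Spec (CommRingCat.of Ω)) := MorphismProperty.of_isPullback hsq inferInstance
  haveI : IsIntegral Z := hZ
  haveI : Surjective m := ⟨fun x => ⟨IsLocalRing.closedPoint _, Subsingleton.elim _ _⟩⟩
  haveI : Flat m := by
    rw [HasRingHomProperty.Spec_iff (P := @Flat)]
    exact RingHom.flat_algebraMap_iff.2 inferInstance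
  let p := pullback.fst q m
  haveI : Surjective p := MorphismProperty.pullback_fst q m ‹_›
  haveI : IsReduced (f.fiber b) := H13AlgSp.FibreRed.isReduced_of_flat_surjective p
  haveI : IrreducibleSpace ↥(f.fiber b) :=
    { isPreirreducible_univ := by
        rw [← Set.range_eq_univ.2 p.surjective, ← Set.image_univ]
        exact (IrreducibleSpace.isIrreducible_univ (X := ↥Z)).isPreirreducible.image _ p.continuous.continuousOn
      toNonempty := ⟨p (genericPoint Z)⟩ }
  refine ⟨isIntegral_of_irreducibleSpace_of_isReduced _, ?_, ?_⟩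
  · rw [← Groth.Agent.S4642.result (K := Ω) q]
    exact hdZ
  · haveI := H29RR.isNoetherian_of_proper (k := κ) (X := f.fiber b)
    rw [Curv2.genus, ← H28Int.FieldExt.finrank_HH_bc Ω hsq (H10Coh.isCoh_structureModule' (f.fiber b)) 1,
      (hhIso (k := Ω) (H16Derived.KFlat.Stalk.structurePullbackIso p) 1).finrank_eq]
    exact hgZ

/-- A geometric fibre isomorphic to the line makes the fibre over the residue field a curve of genus zero. -/
theorem fibre_facts (f : C ⟶ B) [IsProper f] (b : B) (Ω : Type u) [Field Ω] [Algebra (B.residueField b) Ω]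
    (ε : pullback (f.fiberToSpecResidueField b) (Spec.map (CommRingCat.ofHom (algebraMap (B.residueField b) Ω))) ≅
      CohB1.ProjSpace 1 Ω)
    (hε : ε.hom ≫ CohB1.ProjSpace.toSpec 1 Ω = pullback.snd _ _) :
    letI : (f.fiber b).Over (Spec (CommRingCat.of (B.residueField b))) := ⟨f.fiberToSpecResidueField b⟩
    IsIntegral (f.fiber b) ∧ topologicalKrullDim ↥(f.fiber b) = 1 ∧
      Curv2.genus (B.residueField b) (f.fiber b) = 0 := by
  let Z := pullback (f.fiberToSpecResidueField b) (Spec.map (CommRingCat.ofHom (algebraMap (B.residueField b) Ω)))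
  haveI : IsIntegral (CohB1.ProjSpace 1 Ω) := (H28Curve.projLine_facts Ω).1
  haveI : Nonempty Z := ⟨ε.inv (genericPoint (CohB1.ProjSpace 1 Ω))⟩
  letI : Z.Over (Spec (CommRingCat.of Ω)) := ⟨pullback.snd _ _⟩
  letI := H29RR.PnPic.overSpec 1 Ω
  exact fibre_facts_of f b Ω (isIntegral_of_isOpenImmersion ε.hom)
    ((Scheme.homeoOfIso ε).isHomeomorph.topologicalKrullDim_eq.trans ((H28Curve.projLine_facts Ω).2.2.trans Nat.cast_one))
    ((H29DoubleCover.genus_congr (k := Ω) ε hε).trans (H29DoubleCover.genus_projLine Ω))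

/-- Over a fibre that is a genus zero curve, the inverse of the ideal of a section restricts to `O(1)`. -/
theorem fibAt_of_section (f : C ⟶ B) [IsProper f] [SmoothOfRelativeDimension 1 f]
    (s : B ⟶ C) (hs : s ≫ f = 𝟙 B) {L : C.Modules} (hL : PicF.IsInvertible L)
    (eL : Nonempty (CohB1.tensorMod (ClSub.idealMod s.ker) L ≅ Coh.structureModule C)) (b : B)
    (hint : IsIntegral (f.fiber b)) (hdim : topologicalKrullDim ↥(f.fiber b) = 1)
    (hg : letI : (f.fiber b).Over (Spec (CommRingCat.of (B.residueField b))) := ⟨f.fiberToSpecResidueField b⟩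
      Curv2.genus (B.residueField b) (f.fiber b) = 0) :
    FibAt 1 f L b := by
  haveI : Smooth f := SmoothOfRelativeDimension.smooth 1 f
  obtain ⟨eL⟩ := eL
  let κ : Type u := B.residueField b
  let q : f.fiber b ⟶ Spec (CommRingCat.of κ) := f.fiberToSpecResidueField b
  have hX : IsPullback (f.fiberι b) q f (B.fromSpecResidueField b) :=
    IsPullback.of_hasPullback f (B.fromSpecResidueField b)
  letI : (f.fiber b).Over (Spec (CommRingCat.of κ)) := ⟨q⟩
  haveI : IsProper ((f.fiber b) ↘ Spec (CommRingCat.of κ)) := inferInstanceAs (IsProper (pullback.snd f _))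
  haveI : Smooth ((f.fiber b) ↘ Spec (CommRingCat.of κ)) := inferInstanceAs (Smooth (pullback.snd f _))
  haveI := hint
  -- the ideal of the section becomes the ideal of a rational point
  obtain ⟨s', hs', hker⟩ := H27CurveDiv.comap_ker_section hX s hs
  obtain ⟨x, hx, h1, hx', hpt⟩ := H29GenusZero.section_point (k := κ) (X := f.fiber b) s' hs'
  haveI : IsRegularLocalRing ((f.fiber b).presheaf.stalk x) :=
    H19Grp.isRegularLocalRing_stalk_of_smooth ((f.fiber b) ↘ Spec (CommRingCat.of κ)) x
  have hI := H12Pic.CurveFam.isEffCartierIdeal_section f s hs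
  haveI hsm : SmoothOfRelativeDimension 1 q :=
    haveI := smoothOfRelativeDimension_isStableUnderBaseChange.{u} (n := 1)
    MorphismProperty.of_isPullback hX inferInstance
  haveI : IsSeparated q := inferInstanceAs (IsSeparated (pullback.snd f _))
  have hJ : BlowUp.IsEffCartierIdeal (s.ker.comap (f.fiberι b)) := by
    rw [hker]; exact H12Pic.CurveFam.isEffCartierIdeal_section q s' hs'
  obtain ⟨η⟩ := H12Pic.CurveFam.nonempty_pullback_idealMod_comap (f.fiberι b) hI hJ
  rw [hker, hx'] at η
  have hIx := isInvertible_pt_of_regular (k := κ) hdim hx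
  obtain ⟨L', hL', ⟨eL'⟩, hdeg, -, -⟩ := exists_add_point (k := κ) hx hIx
    (H11Ample.isInvertible_structureModule (X := f.fiber b))
  rw [deg_structureModule, zero_add, h1, Nat.cast_one] at hdeg
  let N := (Scheme.Modules.pullback (f.fiberι b)).obj L
  have hN : PicF.IsInvertible N := H11Ample.isInvertible_pullback _ hL
  obtain ⟨eN⟩ : Nonempty (N ≅ L') := by
    refine H25Theta.cancel_right hIx ?_
    have hII := H29Blow.isInvertible_of_isEffCartierIdeal _ hI
    obtain ⟨t⟩ := H11Ample.exists_iso_pullback_tensor (f.fiberι b) hII hL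
    obtain ⟨o⟩ := H11Ample.nonempty_pullback_structureModule_iso (f.fiberι b)
    exact ⟨H10Coh.Tw.commIso N (ClSub.idealMod (ptIdeal x)) ≪≫ H25Theta.tI η.symm (Iso.refl N) ≪≫ t.symm ≪≫
      (Scheme.Modules.pullback (f.fiberι b)).mapIso eL ≪≫ o ≪≫ eL' ≪≫ H10Coh.Tw.commIso _ L'⟩
  obtain ⟨e, he, ⟨σ⟩⟩ := H28Curve.exists_iso_projLine (k := κ) hdim.le hg hL' hdeg
  let O := Twist.twistProjSpace 1 κ 1
  refine ⟨e.inv, inferInstance, ?_, ⟨(Scheme.Modules.pullback e.inv).mapIso (eN ≪≫ σ.symm) ≪≫
    (Scheme.Modules.pullbackComp e.inv e.hom).app O ≪≫ (Scheme.Modules.pullbackCongr e.inv_hom_id).app O ≪≫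
    (Scheme.Modules.pullbackId _).app O⟩⟩
  rw [Iso.inv_comp_eq]
  exact he.symm

/-- A smooth family of lines with a section carries a module restricting to `O(1)` on every fibre: the inverse
of the ideal of the section. -/
theorem fibTwist_of_section (f : C ⟶ B) [IsProper f] [SmoothOfRelativeDimension 1 f]
    (hfib : ∀ (Ω : Type u) [Field Ω] [IsAlgClosed Ω] (b : Spec (CommRingCat.of Ω) ⟶ B),
      ∃ e : pullback f b ≅ CohB1.ProjSpace 1 Ω, e.hom ≫ CohB1.ProjSpace.toSpec 1 Ω = pullback.snd f b)
    (s : B ⟶ C) (hs : s ≫ f = 𝟙 B) {L : C.Modules} (hL : PicF.IsInvertible L)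
    (eL : Nonempty (CohB1.tensorMod (ClSub.idealMod s.ker) L ≅ Coh.structureModule C)) :
    FibTwist 1 f L Set.univ := by
  haveI : Smooth f := SmoothOfRelativeDimension.smooth 1 f
  refine FibTwist.of_forall fun b => ?_
  let κ : Type u := B.residueField b
  let Ω := AlgebraicClosure κ
  let q : f.fiber b ⟶ Spec (CommRingCat.of κ) := f.fiberToSpecResidueField b
  let m := Spec.map (CommRingCat.ofHom (algebraMap κ Ω))
  have hX : IsPullback (f.fiberι b) q f (B.fromSpecResidueField b) :=
    IsPullback.of_hasPullback f (B.fromSpecResidueField b)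
  obtain ⟨ε, hε⟩ : ∃ ε : pullback q m ≅ CohB1.ProjSpace 1 Ω, ε.hom ≫ CohB1.ProjSpace.toSpec 1 Ω = pullback.snd q m := by
    obtain ⟨e, he⟩ := hfib Ω (m ≫ B.fromSpecResidueField b)
    let a := ((IsPullback.of_hasPullback q m).paste_horiz hX).isoPullback
    refine ⟨a ≪≫ e, ?_⟩
    rw [Iso.trans_hom, Category.assoc, he]
    exact IsPullback.isoPullback_hom_snd _
  obtain ⟨hint, hdim, hg⟩ := fibre_facts f b Ω ε hε
  exact fibAt_of_section f s hs hL eL b hint hdim hg

end Groth.Agent.H17.FibProj
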