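import Groth.Agent.H17.FibProj.Main
import Groth.Agent.H17.GenusZeroSt.Pts
import Groth.Agent.H22Alg.PnDeg0
import Groth.Agent.H11P1n.Mult
import Groth.Agent.S17412

/-!
# Two disjoint sections split the direct image of a fibrewise `O(1)` on a family of lines
-/

set_option autoImplicit false
set_option linter.style.haveILetI false
set_option linter.unusedSectionVars false
set_option backward.isDefEq.respectTransparency false
universe u

open CategoryTheory CategoryTheory.Limits AlgebraicGeometry Opposite TopologicalSpace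
open Groth.Agent Groth.Agent.H11Ample Groth.Agent.H11Tilde Groth.Agent.H22Alg

noncomputable section

namespace Groth.Agent.H17.FibProj

/-- A nonzero linear form has at most one rational zero on the line. -/
theorem eq_of_vanish {K : Type u} [Field K] {c : Fin 2 → K} (hc : c ≠ 0)
    (a b : Spec (CommRingCat.of K) ⟶ CohB1.ProjSpace 1 K) (ha : a ≫ CohB1.ProjSpace.toSpec 1 K = 𝟙 _)
    (hb : b ≫ CohB1.ProjSpace.toSpec 1 K = 𝟙 _)
    (ha' : ∀ y, a y ∉ gen (Twist.twistProjSpace 1 K 1) (H25Proj.lin K 1 c))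
    (hb' : ∀ y, b y ∉ gen (Twist.twistProjSpace 1 K 1) (H25Proj.lin K 1 c)) : a = b := by
  obtain ⟨d, hd⟩ := exists_linearIndependent_pair_of_one_lt_finrank (R := K) (M := Fin 2 → K)
    (by simp) hc
  let Bs : Module.Basis (Fin (1 + 1)) K (Fin (1 + 1) → K) :=
    basisOfLinearIndependentOfCardEqFinrank hd (by simp)
  obtain ⟨σ, τ, hσ, hτ⟩ := Groth.Agent.S17412.exists_aut K Bs
  have h0 : Bs 0 = c := by simp [Bs]
  have hgen : gen (Twist.twistProjSpace 1 K 1) (H25Proj.lin K 1 c) =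
      σ.hom ⁻¹ᵁ Proj.basicOpen (CohB1.polyGrading 1 K) (MvPolynomial.X 0) := by
    rw [← h0, ← hτ 0, gen_iso τ.hom, H11P1n.gen_pullTop σ.hom H11Ample.isInvertible_twist, gen_coord]
  rw [← cancel_mono σ.hom]
  refine GenusZeroSt.eq_of_notMem (j := 0) _ _ (by rw [Category.assoc, hσ, ha]) (by rw [Category.assoc, hσ, hb])
    (fun y h => ha' y (hgen.ge h)) (fun y h => hb' y (hgen.ge h))

theorem pullSect_id {X : Scheme.{u}} (M : X.Modules) (V : X.Opens) (m : Γ(M, V)) :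
    ((Scheme.Modules.pullbackId X).inv.app M).app V m = OmegaSh.pullSect (𝟙 X) M V m := by
  have h := unit_conjugateEquiv Adjunction.id (Scheme.Modules.pullbackPushforwardAdjunction (𝟙 X))
    (Scheme.Modules.pullbackId X).hom M
  rw [Scheme.Modules.conjugateEquiv_pullbackId_hom] at h
  have h1 : ((Scheme.Modules.pullbackId X).hom.app M).app V (OmegaSh.pullSect (𝟙 X) M V m) = m :=
    congr($(congrArg (fun k => Scheme.Modules.Hom.app k V) h) m).symm
  exact (congrArg (((Scheme.Modules.pullbackId X).inv.app M).app V) h1).symm.trans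
    congr($(congrArg (fun k => Scheme.Modules.Hom.app k V) ((Scheme.Modules.pullbackId X).hom_inv_id_app M)) _)

theorem comparison_res {X P T : Scheme.{u}} {π : P ⟶ X} {E : X.Modules} {O1 : P.Modules}
    (q : (Scheme.Modules.pullback π).obj E ⟶ O1) (h : T ⟶ P) {g : T ⟶ X} (hg : h ≫ π = g) {M : T.Modules}
    (τ : (Scheme.Modules.pullback h).obj O1 ≅ M) (V : X.Opens) (m : Γ(E, V)) (W : T.Opens) (hW : W ≤ g ⁻¹ᵁ V)
    (hW' : W ≤ h ⁻¹ᵁ (π ⁻¹ᵁ V)) :
    M.presheaf.map (homOfLE hW).op ((comparison q h hg τ).app (g ⁻¹ᵁ V) (OmegaSh.pullSect g E V m)) =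
      M.presheaf.map (homOfLE hW').op
        (τ.hom.app (h ⁻¹ᵁ (π ⁻¹ᵁ V)) (OmegaSh.pullSect h O1 _ (q.app _ (OmegaSh.pullSect π E V m)))) := by
  subst hg
  rw [← comparison_app q h τ V m]
  exact congrArg _ (H11Sym.homEquiv_app_apply (h ≫ π) (comparison q h rfl τ) V m).symm

variable {C B : Scheme.{u}} (f : C ⟶ B) (L : C.Modules)

/-- Evaluation along a section. -/
def sectMap (s : B ⟶ C) (hs : s ≫ f = 𝟙 B) :
    (Scheme.Modules.pushforward f).obj L ⟶ (Scheme.Modules.pullback s).obj L :=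
  (Scheme.Modules.pullbackId B).inv.app _ ≫ comparison (cou f L) s hs (Iso.refl _)

theorem sectMap_app (s : B ⟶ C) (hs : s ≫ f = 𝟙 B) (V : B.Opens) (m : Γ((Scheme.Modules.pushforward f).obj L, V))
    (W : B.Opens) (hW : W ≤ V) (hW' : W ≤ s ⁻¹ᵁ (f ⁻¹ᵁ V)) :
    ((Scheme.Modules.pullback s).obj L).presheaf.map (homOfLE hW).op ((sectMap f L s hs).app V m) =
      ((Scheme.Modules.pullback s).obj L).presheaf.map (homOfLE hW').op (OmegaSh.pullSect s L (f ⁻¹ᵁ V) m) := by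
  refine Eq.trans ?_ (Eq.trans (comparison_res (cou f L) s hs (Iso.refl _) V m W hW hW') ?_)
  · show _ = ((Scheme.Modules.pullback s).obj L).presheaf.map _ _
    refine congrArg _ ?_
    show (comparison (cou f L) s hs (Iso.refl _)).app V (((Scheme.Modules.pullbackId B).inv.app _).app V m) = _
    exact congrArg _ (pullSect_id _ V m)
  · rw [cou_app]
    rfl

section Aux

variable {f L}

theorem mem_basicOpen_of_value {b : B} {V₁ : B.Opens} (a : Γ(B, V₁))
    (hle : (⊤ : (Spec (CommRingCat.of (B.residueField b : Type u))).Opens) ≤ B.fromSpecResidueField b ⁻¹ᵁ V₁)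
    (hne : (Scheme.ΓSpecIso (CommRingCat.of (B.residueField b : Type u))).hom
      ((B.fromSpecResidueField b).appLE V₁ ⊤ hle a) ≠ 0) : b ∈ B.basicOpen a := by
  let K : Type u := B.residueField b
  let SK := Spec (CommRingCat.of K)
  let b₀ : SK ⟶ B := B.fromSpecResidueField b
  have hu : IsUnit (b₀.appLE V₁ ⊤ hle a) := by
    have := (IsUnit.mk0 (G₀ := K) _ hne).map (Scheme.ΓSpecIso (CommRingCat.of K)).inv.hom
    exact (congrArg IsUnit ((Scheme.ΓSpecIso (CommRingCat.of K)).hom_inv_id_apply _)).mp this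
  have hz : IsLocalRing.closedPoint K ∈ SK.basicOpen (b₀.appLE V₁ ⊤ hle a) := by
    rw [Scheme.basicOpen_of_isUnit _ hu]; trivial
  rw [Scheme.basicOpen_appLE] at hz
  exact (Scheme.fromSpecResidueField_apply b (IsLocalRing.closedPoint K)) ▸ hz.2

/-- A combination whose value at a rational point of the fibre is zero does not generate there. -/
theorem not_mem_gen_of_value {b : B} {U₀ : B.Opens} (hb : b ∈ U₀) {n : ℕ}
    (m : Fin n → Γ(L, f ⁻¹ᵁ U₀)) {Wj : C.Opens} (hW : Wj ≤ f ⁻¹ᵁ U₀) (gj : Γ(L, Wj)) (hgj : IsGen L gj)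
    (α : Fin n → Γ(C, Wj)) (hα : ∀ i, L.presheaf.map (homOfLE hW).op (m i) = α i • gj)
    (s₁ : B ⟶ C) (s' : Spec (CommRingCat.of (B.residueField b : Type u)) ⟶ f.fiber b)
    (hs'1 : s' ≫ f.fiberι b = B.fromSpecResidueField b ≫ s₁) (hs'2 : s' ≫ f.fiberToSpecResidueField b = 𝟙 _)
    (hy : s₁ b ∈ Wj) {V₁ : B.Opens} (hV : V₁ ≤ s₁ ⁻¹ᵁ Wj)
    (hle : (⊤ : (Spec (CommRingCat.of (B.residueField b : Type u))).Opens) ≤ B.fromSpecResidueField b ⁻¹ᵁ V₁)
    (c : Fin n → B.residueField b)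
    (hc : ∑ i, (Scheme.ΓSpecIso (CommRingCat.of (B.residueField b : Type u))).hom
      ((B.fromSpecResidueField b).appLE V₁ ⊤ hle (s₁.appLE Wj V₁ hV (α i))) * c i = 0) (z) :
    s' z ∉ gen ((Scheme.Modules.pullback (f.fiberι b)).obj L)
      (lc (f.fiberToSpecResidueField b) (fun i => res f L hb (m i)) c) := by
  let K : Type u := B.residueField b
  let SK := Spec (CommRingCat.of K)
  let q : f.fiber b ⟶ SK := f.fiberToSpecResidueField b
  let b₀ : SK ⟶ B := B.fromSpecResidueField b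
  let N := (Scheme.Modules.pullback (f.fiberι b)).obj L
  let sct : Γ(N, ⊤) := lc q (fun i => res f L hb (m i)) c
  intro hz
  let W' : (f.fiber b).Opens := f.fiberι b ⁻¹ᵁ Wj
  have hzW : s' z ∈ W' := by
    show (f.fiberι b) (s' z) ∈ Wj
    rw [← Scheme.Hom.comp_apply, hs'1, Scheme.Hom.comp_apply,
      show b₀ z = b from Scheme.fromSpecResidueField_apply _ _]
    exact hy
  let eW := OmegaSh.pullSect (f.fiberι b) L Wj gj
  let T : Γ(f.fiber b, W') := ∑ i, (f.fiber b).presheaf.map (homOfLE (le_top : W' ≤ ⊤)).op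
    (ProjUP.toGlobal q (c i)) * (f.fiberι b).app Wj (α i)
  have hT : N.presheaf.map (homOfLE (le_top : W' ≤ ⊤)).op sct = T • eW := by
    show N.presheaf.map _ (lc q (fun i => res f L hb (m i)) c) = _
    rw [lc, map_sum, Finset.sum_smul]
    refine Finset.sum_congr rfl fun i _ => ?_
    rw [Scheme.Modules.map_smul, mul_smul]
    refine congrArg (_ • ·) ?_
    show N.presheaf.map _ (PB.pt _ _ _) = _
    rw [PB.pt, H10Coh.mres_mres]
    have h1 := congrArg (OmegaSh.pullSect (f.fiberι b) L Wj) (hα i)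
    erw [OmegaSh.pullSect_smul, pullSect_res] at h1
    exact h1
  have hzT : s' z ∈ (f.fiber b).basicOpen T :=
    (H11Ample.gen_inf_eq_basicOpen (hgj.pullSect (f.fiberι b)) sct T hT).le ⟨hz, hzW⟩
  have hle' : (⊤ : SK.Opens) ≤ s' ⁻¹ᵁ W' := fun z' _ => by rwa [Subsingleton.elim (α := PrimeSpectrum K) z' z]
  have h0 : (s').appLE W' ⊤ hle' T = 0 := by
    have hinj : Function.Injective (Scheme.ΓSpecIso (CommRingCat.of K)).hom :=
      (ConcreteCategory.bijective_of_isIso _).1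
    refine hinj ?_
    rw [map_zero]
    refine Eq.trans ?_ hc
    simp only [T, map_sum, map_mul]
    refine Finset.sum_congr rfl fun i _ => ?_
    rw [mul_comm]
    refine congrArg₂ (· * ·) ?_ ?_
    · show (Scheme.ΓSpecIso (CommRingCat.of K)).hom ((s').appLE W' ⊤ hle' ((f.fiberι b).app Wj (α i))) =
        (Scheme.ΓSpecIso (CommRingCat.of K)).hom (b₀.appLE V₁ ⊤ hle (s₁.appLE Wj V₁ hV (α i)))
      refine congrArg (Scheme.ΓSpecIso (CommRingCat.of K)).hom ?_
      rw [← CommRingCat.comp_apply, ← CommRingCat.comp_apply, Scheme.Hom.appLE_comp_appLE,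
        Scheme.Hom.app_eq_appLE (f.fiberι b), Scheme.Hom.appLE_comp_appLE]
      have hgen : ∀ (a a' : SK ⟶ C) (ea : (⊤ : SK.Opens) ≤ a ⁻¹ᵁ Wj) (ea' : (⊤ : SK.Opens) ≤ a' ⁻¹ᵁ Wj),
          a = a' → a.appLE Wj ⊤ ea (α i) = a'.appLE Wj ⊤ ea' (α i) := by
        rintro a a' ea ea' rfl; rfl
      exact hgen _ _ _ _ hs'1
    · rw [← CommRingCat.comp_apply ((f.fiber b).presheaf.map _), Scheme.Hom.map_appLE]
      show (Scheme.ΓSpecIso (CommRingCat.of K)).hom ((s').appTop (q.appTop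
        ((Scheme.ΓSpecIso (CommRingCat.of K)).inv (c i)))) = c i
      rw [← CommRingCat.comp_apply q.appTop, ← Scheme.Hom.comp_appTop, hs'2, Scheme.Hom.id_appTop]
      exact (Scheme.ΓSpecIso (CommRingCat.of K)).inv_hom_id_apply (c i)
  have hempty : z ∈ SK.basicOpen ((s').appLE W' ⊤ hle' T) := by
    rw [Scheme.basicOpen_appLE]; exact ⟨trivial, hzT⟩
  rw [h0, Scheme.basicOpen_zero] at hempty
  exact hempty

/-- Two rational points at which a nonzero combination of spanning sections fails to generate are equal. -/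
theorem eq_of_not_mem_gen (hL : PicF.IsInvertible L) {b : B} (hfib : FibAt 1 f L b)
    (v : Fin 2 → Γ((Scheme.Modules.pullback (f.fiberι b)).obj L, ⊤))
    (hspan : ∀ t, ∃ d, t = lc (f.fiberToSpecResidueField b) v d) (c : Fin 2 → B.residueField b) (hc0 : c ≠ 0)
    (s' : Fin 2 → (Spec (CommRingCat.of (B.residueField b : Type u)) ⟶ f.fiber b))
    (hs'2 : ∀ j, s' j ≫ f.fiberToSpecResidueField b = 𝟙 _)
    (hvan : ∀ j z, s' j z ∉ gen ((Scheme.Modules.pullback (f.fiberι b)).obj L)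
      (lc (f.fiberToSpecResidueField b) v c)) : s' 0 = s' 1 := by
  let K : Type u := B.residueField b
  let SK := Spec (CommRingCat.of K)
  let q : f.fiber b ⟶ SK := f.fiberToSpecResidueField b
  let N := (Scheme.Modules.pullback (f.fiberι b)).obj L
  let sct : Γ(N, ⊤) := lc q v c
  obtain ⟨ε, hε, hεt, ⟨σ⟩⟩ := hfib
  haveI := hε
  let val : Γ(N, ⊤) → Γ(Twist.twistProjSpace 1 K 1, ⊤) := fun t => σ.hom.app ⊤ (pullTop ε (L := N) t)
  have hvalb : Function.Bijective val :=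
    (PullSect.bijective_app σ.hom ⊤).comp (PullSect.bijective_pullSect ε N fun x _ => ε.surjective x)
  choose T hT using fun i => H25Proj.lin_surjective K 1 (val (v i))
  let Φ : (Fin 2 → K) →ₗ[K] (Fin 2 → K) := Fintype.linearCombination K T
  have hΦ : ∀ d, H25Proj.lin K 1 (Φ d) = val (lc q v d) := fun d => by
    show _ = σ.hom.app ⊤ _
    rw [pullTop_lc ε hεt, app_lc, show (fun i => σ.hom.app ⊤ (pullTop ε (L := N) (v i))) =
      fun i => lc (CohB1.ProjSpace.toSpec 1 K) (H25Proj.co K 1) (T i) from funext fun i => (hT i).symm, lc_lc]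
    refine congrArg (H25Proj.lin K 1) (funext fun i => ?_)
    simp [Φ, Fintype.linearCombination_apply]
  have hΦs : Function.Surjective Φ := fun t => by
    obtain ⟨x, hx⟩ := hvalb.2 (H25Proj.lin K 1 t)
    obtain ⟨d, rfl⟩ := hspan x
    exact ⟨d, H25Proj.lin_injective K 1 ((hΦ d).trans hx)⟩
  have hΦ0 : Φ c ≠ 0 := fun h0 =>
    hc0 ((LinearMap.injective_iff_surjective.2 hΦs) (h0.trans (map_zero Φ).symm))
  have hN : PicF.IsInvertible N := H11Ample.isInvertible_pullback _ hL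
  have hg' : gen (Twist.twistProjSpace 1 K 1) (H25Proj.lin K 1 (Φ c)) = ε ⁻¹ᵁ gen N sct := by
    rw [hΦ c, gen_iso σ.hom, H11P1n.gen_pullTop ε hN]
  have hsec : ∀ j, (s' j ≫ inv ε) ≫ CohB1.ProjSpace.toSpec 1 K = 𝟙 SK := fun j => by
    rw [← hεt, Category.assoc, IsIso.inv_hom_id_assoc]
    exact hs'2 j
  have hnot : ∀ j z, (s' j ≫ inv ε) z ∉ gen (Twist.twistProjSpace 1 K 1) (H25Proj.lin K 1 (Φ c)) := fun j z hz => by
    have := hg'.le hz
    refine hvan j z ?_
    have h2 : ε ((s' j ≫ inv ε) z) = s' j z := by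
      rw [← Scheme.Hom.comp_apply, Category.assoc, IsIso.inv_hom_id, Category.comp_id]
    exact h2 ▸ this
  have heq := eq_of_vanish hΦ0 _ _ (hsec 0) (hsec 1) (hnot 0) (hnot 1)
  exact (cancel_mono (inv ε)).1 heq

theorem sectMap_value (s₁ : B ⟶ C) (hs₁ : s₁ ≫ f = 𝟙 B) {U₀ V₁ : B.Opens} {Wj : C.Opens} (hV₀ : V₁ ≤ U₀)
    (hW : Wj ≤ f ⁻¹ᵁ U₀) (hV : V₁ ≤ s₁ ⁻¹ᵁ Wj) (m : Γ((Scheme.Modules.pushforward f).obj L, U₀))
    (α : Γ(C, Wj)) (gj : Γ(L, Wj)) (hα : L.presheaf.map (homOfLE hW).op (m : Γ(L, f ⁻¹ᵁ U₀)) = α • gj) :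
    (sectMap f L s₁ hs₁).app V₁ (((Scheme.Modules.pushforward f).obj L).presheaf.map (homOfLE hV₀).op m) =
      s₁.appLE Wj V₁ hV α •
        ((Scheme.Modules.pullback s₁).obj L).presheaf.map (homOfLE hV).op (OmegaSh.pullSect s₁ L Wj gj) := by
  have h' : V₁ ≤ s₁ ⁻¹ᵁ (f ⁻¹ᵁ U₀) := hV.trans (s₁.preimage_mono hW)
  refine (app_map_apply (sectMap f L s₁ hs₁) hV₀ m).trans ((sectMap_app f L s₁ hs₁ U₀ m V₁ hV₀ h').trans ?_)
  have h1 := congrArg (OmegaSh.pullSect s₁ L Wj) hα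
  erw [OmegaSh.pullSect_smul, pullSect_res] at h1
  have h2 := congrArg (((Scheme.Modules.pullback s₁).obj L).presheaf.map (homOfLE hV).op) h1
  rw [H10Coh.mres_mres, Scheme.Modules.map_smul] at h2
  exact h2.trans rfl

theorem isUnit_res_of_le {V₁ W : B.Opens} (a : Γ(B, V₁)) (hW : W ≤ B.basicOpen a) (hW₁ : W ≤ V₁) :
    IsUnit ((B.presheaf.map (homOfLE hW₁).op).hom a) := by
  have h1 : IsUnit ((B.presheaf.map (homOfLE (B.basicOpen_le a)).op).hom a) :=
    RingedSpace.isUnit_res_basicOpen B.toRingedSpace a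
  have h2 := h1.map (B.presheaf.map (homOfLE hW).op).hom
  rwa [← RingHom.comp_apply, ← CommRingCat.hom_comp, ← Functor.map_comp] at h2

/-- A pair of maps given by an invertible matrix in frames is bijective on smaller opens. -/
theorem bijective_pair {E M₀ M₁ : B.Modules} (u₀ : E ⟶ M₀) (u₁ : E ⟶ M₁) {V₁ : B.Opens} (bs : Fin 2 → Γ(E, V₁))
    (g₀ : Γ(M₀, V₁)) (hg₀ : IsGen M₀ g₀) (g₁ : Γ(M₁, V₁)) (hg₁ : IsGen M₁ g₁)
    (Mx : Matrix (Fin 2) (Fin 2) Γ(B, V₁))
    (h₀ : ∀ i, u₀.app V₁ (bs i) = Mx 0 i • g₀)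
    (h₁ : ∀ i, u₁.app V₁ (bs i) = Mx 1 i • g₁)
    {W : B.Opens} (hW : W ≤ B.basicOpen Mx.det)
    (hspan : ∀ m : Γ(E, W), ∃ d : Fin 2 → Γ(B, W),
      m = ∑ i, d i • E.presheaf.map (homOfLE (hW.trans (B.basicOpen_le _))).op (bs i)) :
    Function.Bijective fun m : Γ(E, W) => (u₀.app W m, u₁.app W m) := by
  classical
  have hW₁ : W ≤ V₁ := hW.trans (B.basicOpen_le _)
  let ρ : Γ(B, V₁) →+* Γ(B, W) := (B.presheaf.map (homOfLE hW₁).op).hom
  have hu : IsUnit (Mx.map ρ).det := by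
    have h1 : IsUnit (ρ Mx.det) := isUnit_res_of_le Mx.det hW hW₁
    rwa [RingHom.map_det, RingHom.mapMatrix_apply] at h1
  have hMb : Function.Bijective (Mx.map ρ).mulVec :=
    Function.bijective_iff_has_inverse.2 ⟨(Mx.map ρ)⁻¹.mulVec,
      fun v => by rw [Matrix.mulVec_mulVec, Matrix.nonsing_inv_mul _ hu, Matrix.one_mulVec],
      fun v => by rw [Matrix.mulVec_mulVec, Matrix.mul_nonsing_inv _ hu, Matrix.one_mulVec]⟩
  let mk : (Fin 2 → Γ(B, W)) → Γ(E, W) := fun d => ∑ i, d i • E.presheaf.map (homOfLE hW₁).op (bs i)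
  have hmk : Function.Surjective mk := fun m => by
    obtain ⟨d, hd⟩ := hspan m
    exact ⟨d, hd.symm⟩
  let e₀ : Γ(M₀, W) := M₀.presheaf.map (homOfLE hW₁).op g₀
  let e₁ : Γ(M₁, W) := M₁.presheaf.map (homOfLE hW₁).op g₁
  have he₀ : Function.Bijective fun ξ : Γ(B, W) => ξ • e₀ := hg₀.bijective hW₁
  have he₁ : Function.Bijective fun ξ : Γ(B, W) => ξ • e₁ := hg₁.bijective hW₁
  have key : ∀ {M : B.Modules} (u : E ⟶ M) (j : Fin 2) (g : Γ(M, V₁)) (hu : ∀ i, u.app V₁ (bs i) = Mx j i • g) (d),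
      u.app W (mk d) = (Mx.map ρ).mulVec d j • M.presheaf.map (homOfLE hW₁).op g := by
    intro M u j g hu d
    show u.app W (∑ i, _) = _
    rw [map_sum, Matrix.mulVec, dotProduct, Finset.sum_smul]
    refine Finset.sum_congr rfl fun i _ => ?_
    rw [Scheme.Modules.Hom.app_smul, mul_comm, mul_smul, app_map_apply, hu, Scheme.Modules.map_smul]
    rfl
  have hcomp : Function.Bijective ((fun m : Γ(E, W) => (u₀.app W m, u₁.app W m)) ∘ mk) := by
    refine ⟨fun d d' hdd => hMb.1 (funext fun j => ?_), fun x => ?_⟩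
    · have h0 := congrArg Prod.fst hdd
      have h1 := congrArg Prod.snd hdd
      simp only [Function.comp_apply] at h0 h1
      rw [key u₀ 0 _ h₀, key u₀ 0 _ h₀] at h0
      rw [key u₁ 1 _ h₁, key u₁ 1 _ h₁] at h1
      fin_cases j
      · exact he₀.1 h0
      · exact he₁.1 h1
    · obtain ⟨ξ₀, h0⟩ := he₀.2 x.1
      obtain ⟨ξ₁, h1⟩ := he₁.2 x.2
      obtain ⟨d, hd⟩ := hMb.2 ![ξ₀, ξ₁]
      refine ⟨d, Prod.ext ?_ ?_⟩
      · exact (key u₀ 0 _ h₀ d).trans ((congrArg (fun t => t • e₀) (congrFun hd 0)).trans h0)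
      · exact (key u₁ 1 _ h₁ d).trans ((congrArg (fun t => t • e₁) (congrFun hd 1)).trans h1)
  exact (Function.Bijective.of_comp_iff _ (⟨fun d d' hdd => hcomp.1 (by simp only [Function.comp_apply, hdd]), hmk⟩ :
    Function.Bijective mk)).1 hcomp

end Aux

variable {f L} [IsProper f] [Flat f] [LocallyOfFinitePresentation f] (hL : PicF.IsInvertible L)
  (h : FibTwist 1 f L Set.univ) (s : Fin 2 → (B ⟶ C)) (hs : ∀ j, s j ≫ f = 𝟙 B)
  (hdisj : ∀ b : B, s 0 b ≠ s 1 b)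

include hL h hs hdisj in
/-- Near each point of the base the two evaluations are given by an invertible matrix. -/
theorem exists_frame (b : B) : ∃ V : B.Opens, b ∈ V ∧ ∀ W : B.Opens, W ≤ V →
    Function.Bijective fun m : Γ((Scheme.Modules.pushforward f).obj L, W) =>
      ((sectMap f L (s 0) (hs 0)).app W m, (sectMap f L (s 1) (hs 1)).app W m) := by
  classical
  let E := (Scheme.Modules.pushforward f).obj L
  obtain ⟨U, hbU, ⟨e⟩⟩ := rank_push hL h b
  have hbU₀ : b ∈ PB.U₀ U := (U.ι_image_top).ge hbU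
  have hfs : ∀ j, f (s j b) = b := fun j => by
    rw [← Scheme.Hom.comp_apply, hs j]; rfl
  choose A g hyA hg using fun j => H11Ample.exists_gen hL (s j b)
  let Wl : Fin 2 → C.Opens := fun j => A j ⊓ f ⁻¹ᵁ PB.U₀ U
  have hyW : ∀ j, s j b ∈ Wl j := fun j => ⟨hyA j, show f (s j b) ∈ PB.U₀ U by rw [hfs j]; exact hbU₀⟩
  let gW : ∀ j, Γ(L, Wl j) := fun j => L.presheaf.map (homOfLE (inf_le_left : Wl j ≤ A j)).op (g j)
  have hgW : ∀ j, IsGen L (gW j) := fun j => (hg j).res inf_le_left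
  choose α hα using fun j i => H11Ample.exists_coeff (hgW j)
    (L.presheaf.map (homOfLE (inf_le_right : Wl j ≤ f ⁻¹ᵁ PB.U₀ U)).op (PB.bas e i : Γ(L, f ⁻¹ᵁ PB.U₀ U)))
  let V₁ : B.Opens := PB.U₀ U ⊓ (s 0 ⁻¹ᵁ Wl 0 ⊓ s 1 ⁻¹ᵁ Wl 1)
  have hV₁ : ∀ j, V₁ ≤ s j ⁻¹ᵁ Wl j := by
    intro j
    fin_cases j
    · exact inf_le_right.trans inf_le_left
    · exact inf_le_right.trans inf_le_right
  have hbV₁ : b ∈ V₁ := ⟨hbU₀, hyW 0, hyW 1⟩
  let Mx : Matrix (Fin 2) (Fin 2) Γ(B, V₁) := Matrix.of fun j i => (s j).appLE (Wl j) V₁ (hV₁ j) (α j i)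
  let ej : ∀ j, Γ((Scheme.Modules.pullback (s j)).obj L, V₁) := fun j =>
    ((Scheme.Modules.pullback (s j)).obj L).presheaf.map (homOfLE (hV₁ j)).op (OmegaSh.pullSect (s j) L (Wl j) (gW j))
  have hej : ∀ j, IsGen _ (ej j) := fun j => ((hgW j).pullSect (s j)).res (hV₁ j)
  have hval : ∀ j i, (sectMap f L (s j) (hs j)).app V₁ (E.presheaf.map (homOfLE inf_le_left).op (PB.bas e i)) =
      Mx j i • ej j := fun j i =>
    sectMap_value (s j) (hs j) inf_le_left inf_le_right (hV₁ j) (PB.bas e i) (α j i) (gW j) (hα j i)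
  -- the matrix is invertible at the point
  have hdet : b ∈ B.basicOpen Mx.det := by
    let K : Type u := B.residueField b
    let SK := Spec (CommRingCat.of K)
    let b₀ : SK ⟶ B := B.fromSpecResidueField b
    have hle : (⊤ : SK.Opens) ≤ b₀ ⁻¹ᵁ V₁ := fun z _ => by
      show b₀ z ∈ V₁
      rw [show b₀ z = b from Scheme.fromSpecResidueField_apply _ _]
      exact hbV₁
    let ψ : Γ(B, V₁) →+* K := (Scheme.ΓSpecIso (CommRingCat.of K)).hom.hom.comp (b₀.appLE V₁ ⊤ hle).hom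
    by_contra hnb
    have hψ : ψ Mx.det = 0 := by
      by_contra hne
      exact hnb (mem_basicOpen_of_value Mx.det hle hne)
    have hψd : (Mx.map ψ).det = 0 := by
      rw [← RingHom.mapMatrix_apply, ← RingHom.map_det, hψ]
    obtain ⟨c, hc0, hc⟩ := Matrix.exists_mulVec_eq_zero_iff.2 hψd
    have hX : IsPullback (f.fiberι b) (f.fiberToSpecResidueField b : f.fiber b ⟶ SK) f b₀ :=
      IsPullback.of_hasPullback f _
    let s' : Fin 2 → (SK ⟶ f.fiber b) := fun j => hX.lift (b₀ ≫ s j) (𝟙 SK)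
      (by rw [Category.assoc, hs j, Category.comp_id, Category.id_comp])
    have hs'1 : ∀ j, s' j ≫ f.fiberι b = b₀ ≫ s j := fun j => hX.lift_fst _ _ _
    have hs'2 : ∀ j, s' j ≫ f.fiberToSpecResidueField b = 𝟙 SK := fun j => hX.lift_snd _ _ _
    have heq := eq_of_not_mem_gen hL (h.fib b trivial) (fun i => res f L hbU₀ (PB.bas e i))
      (res_span hL h e hbU₀) c hc0 s' hs'2 fun j z =>
        not_mem_gen_of_value hbU₀ (fun i => (PB.bas e i : Γ(L, f ⁻¹ᵁ PB.U₀ U))) inf_le_right (gW j) (hgW j) (α j) (hα j)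
          (s j) (s' j) (hs'1 j) (hs'2 j) (hyW j) (hV₁ j) hle c (congrFun hc j) z
    refine hdisj b ?_
    have h3 : ∀ j, f.fiberι b (s' j (IsLocalRing.closedPoint K)) = s j b := fun j => by
      rw [← Scheme.Hom.comp_apply, hs'1 j, Scheme.Hom.comp_apply,
        show b₀ (IsLocalRing.closedPoint K) = b from Scheme.fromSpecResidueField_apply _ _]
    rw [← h3 0, ← h3 1, heq]
  -- bijective on smaller opens
  refine ⟨B.basicOpen Mx.det, hdet, fun W hW => ?_⟩
  refine bijective_pair _ _ (fun i => E.presheaf.map (homOfLE (inf_le_left : V₁ ≤ PB.U₀ U)).op (PB.bas e i))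
    (ej 0) (hej 0) (ej 1) (hej 1) Mx (hval 0) (hval 1) hW fun m => ?_
  obtain ⟨d, hd⟩ := exists_eq_sum_bas e ((hW.trans (B.basicOpen_le _)).trans inf_le_left) m
  refine ⟨d, hd.trans (Finset.sum_congr rfl fun i _ => congrArg (d i • ·) ?_)⟩
  exact (H10Coh.mres_mres E _ _ _).symm

include hL h hs hdisj in
/-- The two sections split the direct image. -/
theorem exists_iso_biprod :
    Nonempty ((Scheme.Modules.pushforward f).obj L ≅
      (Scheme.Modules.pullback (s 0)).obj L ⊞ (Scheme.Modules.pullback (s 1)).obj L) := by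
  let M₀ := (Scheme.Modules.pullback (s 0)).obj L
  let M₁ := (Scheme.Modules.pullback (s 1)).obj L
  let u : (Scheme.Modules.pushforward f).obj L ⟶ M₀ ⊞ M₁ :=
    biprod.lift (sectMap f L (s 0) (hs 0)) (sectMap f L (s 1) (hs 1))
  choose V hbV hV using exists_frame hL h s hs hdisj
  haveI : IsIso u := by
    refine PnDeg0.isIso_of_bijective_basis u (fun W => ∃ b, W ≤ V b)
      (fun W x hx => ⟨W ⊓ V x, ⟨x, inf_le_right⟩, ⟨hx, hbV x⟩, inf_le_left⟩) fun W ⟨b, hW⟩ => ?_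
    let pr : Γ(M₀ ⊞ M₁, W) → Γ(M₀, W) × Γ(M₁, W) := fun z =>
      ((biprod.fst : M₀ ⊞ M₁ ⟶ M₀).app W z, (biprod.snd : M₀ ⊞ M₁ ⟶ M₁).app W z)
    have hsplit : ∀ z, z = (biprod.inl : M₀ ⟶ M₀ ⊞ M₁).app W ((biprod.fst : M₀ ⊞ M₁ ⟶ M₀).app W z) +
        (biprod.inr : M₁ ⟶ M₀ ⊞ M₁).app W ((biprod.snd : M₀ ⊞ M₁ ⟶ M₁).app W z) := fun z =>
      (congr($(congrArg (fun k => Scheme.Modules.Hom.app k W) (biprod.total (X := M₀) (Y := M₁))) z)).symm
    have hpr : Function.Injective pr := fun z z' hzz => by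
      have h0 := congrArg Prod.fst hzz
      have h1 := congrArg Prod.snd hzz
      simp only [pr] at h0 h1
      rw [hsplit z, hsplit z', h0, h1]
    have hcomp : pr ∘ (fun m => u.app W m) = fun m =>
        ((sectMap f L (s 0) (hs 0)).app W m, (sectMap f L (s 1) (hs 1)).app W m) := funext fun m =>
      Prod.ext (congr($(congrArg (fun k => Scheme.Modules.Hom.app k W)
          (biprod.lift_fst (sectMap f L (s 0) (hs 0)) (sectMap f L (s 1) (hs 1)))) m))
        (congr($(congrArg (fun k => Scheme.Modules.Hom.app k W)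
          (biprod.lift_snd (sectMap f L (s 0) (hs 0)) (sectMap f L (s 1) (hs 1)))) m))
    have hb := hV b W hW
    rw [← hcomp] at hb
    refine ⟨fun m m' hm => hb.1 (congrArg pr hm), fun z => ?_⟩
    obtain ⟨m, hm⟩ := hb.2 (pr z)
    exact ⟨m, hpr hm⟩
  exact ⟨asIso u⟩

end Groth.Agent.H17.FibProj
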