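import Groth.Agent.H17.FibProj.Sect
import Groth.Agent.H17.FibProj.Split

/-!
# Families of lines with sections are projective bundles
-/

set_option autoImplicit false
set_option linter.style.haveILetI false
set_option backward.isDefEq.respectTransparency false
universe u

open CategoryTheory CategoryTheory.Limits AlgebraicGeometry TopologicalSpace
open Groth.Agent

noncomputable section

namespace Groth.Agent.H17.FibProj

/-- Projective bundles only depend on the isomorphism class of the module. -/
theorem isProjBundle_congr {X P : Scheme.{u}} {π : P ⟶ X} {E E' : X.Modules} {O1 : P.Modules}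
    {q : (Scheme.Modules.pullback π).obj E ⟶ O1} (h : KRR.IsProjBundle π E O1 q) (φ : E' ≅ E) :
    KRR.IsProjBundle π E' O1 ((Scheme.Modules.pullback π).map φ.hom ≫ q) := by
  haveI := h.epi
  have key : ∀ {T : Scheme.{u}} (k : T ⟶ P) {g : T ⟶ X} (hg : k ≫ π = g) {M : T.Modules}
      (τ : (Scheme.Modules.pullback k).obj O1 ≅ M),
      comparison ((Scheme.Modules.pullback π).map φ.hom ≫ q) k hg τ =
        (Scheme.Modules.pullback g).map φ.hom ≫ comparison q k hg τ := by
    intro T k g hg M τ
    simp only [comparison, Functor.map_comp, Category.assoc]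
    have h1 := (Scheme.Modules.pullbackCongr hg).inv.naturality φ.hom
    have h2 := (Scheme.Modules.pullbackComp k π).inv.naturality φ.hom
    simp only [Functor.comp_map] at h1 h2
    rw [reassoc_of% h1, reassoc_of% h2]
  refine ⟨h.invertible, epi_comp _ _, fun T g M hM s hs => ?_⟩
  obtain ⟨k, ⟨hk, e, he⟩, huniq⟩ := h.univ T g M hM ((Scheme.Modules.pullback g).map φ.inv ≫ s) (epi_comp _ _)
  refine ⟨k, ⟨hk, e, ?_⟩, fun k' ⟨hk', e', he'⟩ => huniq k' ⟨hk', e', ?_⟩⟩
  · show comparison ((Scheme.Modules.pullback π).map φ.hom ≫ q) k hk e = s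
    rw [key, show comparison q k hk e = _ from he, ← Functor.map_comp_assoc, Iso.hom_inv_id, CategoryTheory.Functor.map_id,
      Category.id_comp]
  · show comparison q k' hk' e' = _
    have h1 : (Scheme.Modules.pullback g).map φ.hom ≫ comparison q k' hk' e' = s := (key k' hk' e').symm.trans he'
    rw [← h1, ← Functor.map_comp_assoc, Iso.inv_hom_id, CategoryTheory.Functor.map_id, Category.id_comp]

variable {C B : Scheme.{u}} (f : C ⟶ B) [IsProper f] [SmoothOfRelativeDimension 1 f]

/-- The module of a section. -/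
theorem exists_sectionMod (s : B ⟶ C) (hs : s ≫ f = 𝟙 B) :
    ∃ L : C.Modules, PicF.IsInvertible L ∧
      Nonempty (CohB1.tensorMod (ClSub.idealMod s.ker) L ≅ Coh.structureModule C) := by
  obtain ⟨L, hL, ⟨e⟩⟩ := H11Sym.exists_inverse
    (H29Blow.isInvertible_of_isEffCartierIdeal _ (H12Pic.CurveFam.isEffCartierIdeal_section f s hs))
  exact ⟨L, hL, ⟨H10Coh.Tw.commIso _ L ≪≫ e⟩⟩

/-- Away from the section its module is trivial. -/
theorem nonempty_pullback_sectionMod (t : B ⟶ C) (ht : t ≫ f = 𝟙 B) {L : C.Modules} (hL : PicF.IsInvertible L)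
    (eL : Nonempty (CohB1.tensorMod (ClSub.idealMod t.ker) L ≅ Coh.structureModule C)) (s : B ⟶ C)
    (hdisj : Disjoint (Set.range t) (Set.range s)) :
    Nonempty ((Scheme.Modules.pullback s).obj L ≅ Coh.structureModule B) := by
  obtain ⟨eL⟩ := eL
  haveI : IsClosedImmersion t := by
    haveI : IsClosedImmersion (t ≫ f) := by rw [ht]; infer_instance
    exact IsClosedImmersion.of_comp t f
  have hI := H12Pic.CurveFam.isEffCartierIdeal_section f t ht
  have htop : t.ker.comap s = ⊤ := by
    rw [← Scheme.IdealSheafData.support_eq_bot_iff]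
    refine TopologicalSpace.Closeds.ext (Set.eq_empty_iff_forall_notMem.mpr fun x hx => ?_)
    rw [Scheme.IdealSheafData.support_comap] at hx
    have hx' : s x ∈ (t.ker.support : Set C) := hx
    rw [Scheme.Hom.support_ker, t.isClosedEmbedding.isClosed_range.closure_eq] at hx'
    exact Set.disjoint_left.1 hdisj hx' ⟨x, rfl⟩
  have hJ : BlowUp.IsEffCartierIdeal (⊤ : B.IdealSheafData) := fun x => by
    obtain ⟨U, hU, hxU, -⟩ := exists_isAffineOpen_mem_and_subset (U := (⊤ : B.Opens)) (x := x) trivial
    exact ⟨⟨U, hU⟩, hxU, 1, one_mem _, by simp⟩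
  obtain ⟨η⟩ := H12Pic.CurveFam.nonempty_pullback_idealMod_comap s hI (by rw [htop]; exact hJ)
  rw [htop] at η
  obtain ⟨τ⟩ := H11Ample.exists_iso_pullback_tensor s (H29Blow.isInvertible_of_isEffCartierIdeal _ hI) hL
  obtain ⟨o⟩ := H11Ample.nonempty_pullback_structureModule_iso s
  haveI : IsIso (ClSub.idealModι (⊤ : B.IdealSheafData)) := by
    haveI : Mono (ClSub.idealModι (⊤ : B.IdealSheafData)) := inferInstanceAs (Mono (kernel.ι _))
    haveI : Epi (ClSub.idealModι (⊤ : B.IdealSheafData)) := by
      refine H11Tilde.epi_of_locally_surjective _ fun W t x hx => ?_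
      obtain ⟨U, hU, hxU, hUW⟩ := exists_isAffineOpen_mem_and_subset hx
      obtain ⟨a, ha⟩ := (H29Blow.mem_ideal_iff_exists_idealSect (⊤ : B.IdealSheafData) hU
        ((Coh.structureModule B).presheaf.map (homOfLE hUW).op t)).1
        (by rw [Scheme.IdealSheafData.ideal_top]; trivial)
      exact ⟨U, hUW, hxU, a, ha⟩
    exact isIso_of_mono_of_epi _
  exact ⟨(H10Coh.Tw.rightUnitIso _).symm ≪≫ H10Coh.Tw.commIso _ (Coh.structureModule B) ≪≫
    H25Theta.tI ((asIso (ClSub.idealModι (⊤ : B.IdealSheafData))).symm ≪≫ η.symm) (Iso.refl _) ≪≫ τ.symm ≪≫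
      (Scheme.Modules.pullback s).mapIso eL ≪≫ o⟩

end Groth.Agent.H17.FibProj

namespace Groth.Agent.H17.FibProj

/-- The sum of two copies of the structure module is free of rank two. -/
def biprodFreeTwo (X : Scheme.{u}) :
    Coh.structureModule X ⊞ Coh.structureModule X ≅ FlatMod.freeMod X 2 :=
  let O : Fin 2 → X.Modules := fun _ => Coh.structureModule X
  { hom := biprod.desc (Sigma.ι O 0) (Sigma.ι O 1)
    inv := Sigma.desc (f := O) fun j => if j = 0 then biprod.inl else biprod.inr
    hom_inv_id := by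
      apply biprod.hom_ext' <;> simp [O]
    inv_hom_id := by
      refine Sigma.hom_ext (f := O) _ _ fun j => ?_
      rw [Sigma.ι_desc_assoc]
      by_cases hj : j = 0
      · subst hj
        rw [if_pos rfl, biprod.inl_desc]
        exact (Category.comp_id _).symm
      · obtain rfl : j = 1 := by omega
        rw [if_neg hj, biprod.inr_desc]
        exact (Category.comp_id _).symm }

end Groth.Agent.H17.FibProj
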