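import Groth.Agent.H17.FibProj.SectApply
import Groth.Agent.H17.FibProj.ClosedFib
import Groth.Agent.H17.GenusZeroSt.ClosedFibres
import Groth.Agent.H12Pic.PicCurve.RelDimFibres
import Groth.Agent.H26CDiv.Dim1
import Groth.Agent.H26Smooth.ProjSmooth

/-!
# A surface fibred in lines over a curve is a projective bundle
-/

set_option autoImplicit false
set_option linter.style.haveILetI false
set_option backward.isDefEq.respectTransparency false
universe u

open CategoryTheory CategoryTheory.Limits AlgebraicGeometry TopologicalSpace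
open Groth.Agent

noncomputable section

namespace Groth.Agent.H17.FibProj

attribute [local instance 10000] H10Coh.hasSheafifyAb H10Coh.hasWeakSheafifyAb H10Coh.hasExtAb H10Coh.enoughInjAb

variable {k : Type u} [Field k] [IsAlgClosed k]

theorem exists_isProjBundle_of_surface {X B : Scheme.{u}} [X.Over (Spec (CommRingCat.of k))]
    [B.Over (Spec (CommRingCat.of k))] [IsIntegral X] [IsIntegral B] [IsProper (X ↘ Spec (CommRingCat.of k))]
    (hX : topologicalKrullDim X = 2) (hB : Curve.IsSmoothProperCurve k B (B ↘ Spec (CommRingCat.of k)))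
    (hnormB : ∀ y : B, IsIntegrallyClosed (B.presheaf.stalk y))
    (π : X ⟶ B) (hπ : π ≫ (B ↘ Spec (CommRingCat.of k)) = X ↘ Spec (CommRingCat.of k))
    (hsurj : Function.Surjective π)
    (hfib : ∀ b : B, IsClosed ({b} : Set B) → Nonempty (π.fiber b ≅ CohB1.ProjSpace 1 k)) :
    ∃ (E : B.Modules) (L : X.Modules) (q : (Scheme.Modules.pullback π).obj E ⟶ L),
      FlatMod.IsFinLocFreeOfRank 2 E ∧ KRR.IsProjBundle π E L q := by
  obtain ⟨hBp, hBs, -, hBd⟩ := id hB
  haveI := hBp
  haveI := hBs
  haveI : IsProper π := by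
    haveI : IsProper (π ≫ (B ↘ Spec (CommRingCat.of k))) := by rw [hπ]; infer_instance
    exact IsProper.of_comp π (B ↘ Spec (CommRingCat.of k))
  haveI : IsLocallyNoetherian B := LocallyOfFiniteType.isLocallyNoetherian (B ↘ Spec (CommRingCat.of k))
  haveI : LocallyOfFinitePresentation π := inferInstance
  have hη : π (genericPoint X) = genericPoint B := by
    obtain ⟨x', hx'⟩ := hsurj (genericPoint B)
    refine Specializes.antisymm ?_ ((genericPoint_spec B).specializes trivial) |>.eq
    exact (((genericPoint_spec X).specializes (trivial : x' ∈ (Set.univ : Set X))).map π.continuous).trans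
      (specializes_of_eq hx')
  haveI : Flat π := H29Curve.flat_of_dominant_normal π hη hnormB hBd.le
  obtain ⟨hgi, hgen⟩ := GenusZeroSt.genericFibre_of_closedFibres (k := k) hBd hnormB π hπ hsurj hfib
  haveI := hgi
  obtain ⟨σ, hσ⟩ := GenusZeroSt.exists_section_fibration (k := k) hX hB π hπ hsurj hgen
  -- the fibres
  have hfacts : ∀ b : B, IsIntegral (π.fiber b) ∧ topologicalKrullDim ↥(π.fiber b) = 1 ∧
      Smooth (π.fiberToSpecResidueField b) ∧
      (letI : (π.fiber b).Over (Spec (CommRingCat.of (B.residueField b))) := ⟨π.fiberToSpecResidueField b⟩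
      Curv2.genus (B.residueField b) (π.fiber b) = 0) := by
    intro b
    let κ : Type u := B.residueField b
    let q : π.fiber b ⟶ Spec (CommRingCat.of κ) := π.fiberToSpecResidueField b
    letI : (π.fiber b).Over (Spec (CommRingCat.of κ)) := ⟨q⟩
    haveI : IsProper ((π.fiber b) ↘ Spec (CommRingCat.of κ)) := inferInstanceAs (IsProper (pullback.snd π _))
    by_cases hb : b = genericPoint B
    · subst hb
      haveI : GeometricallyIntegral ((π.fiber (genericPoint B)) ↘ Spec (CommRingCat.of κ)) := hgi
      haveI : IsIntegral (π.fiber (genericPoint B)) :=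
        GeometricallyIntegral.geometrically_isIntegral (f := q) (𝟙 _) (𝟙 (π.fiber (genericPoint B))) q
          (IsPullback.of_horiz_isIso ⟨by simp⟩)
      have hd := GenusZeroSt.dim_genericFibre (k := k) hX hBd π hπ hsurj
      exact ⟨inferInstance, hd, H29GenusZero.smooth_of_genus_zero (k := κ) hd hgen, hgen⟩
    · have hcl := H26CDiv.isClosed_singleton_of_ne_genericPoint hBd.le hb
      obtain ⟨φ⟩ := hfib b hcl
      haveI : IsAlgClosed (B.residueField b) :=
        H05EGA4.EtCl.isAlgClosed_residueField_of_isClosed (B ↘ Spec (CommRingCat.of k)) b hcl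
      obtain ⟨ε, hε, hεt⟩ := exists_iso_over (r := 1) (f := π) b k φ.inv
      haveI := hε
      letI := H29RR.PnPic.overSpec 1 κ
      haveI : IsIntegral (CohB1.ProjSpace 1 κ) := (H28Curve.projLine_facts κ).1
      haveI : Nonempty (π.fiber b) := ⟨ε (genericPoint (CohB1.ProjSpace 1 κ))⟩
      haveI : IsIntegral (π.fiber b) := isIntegral_of_isOpenImmersion (inv ε)
      refine ⟨inferInstance, ?_, ?_, ?_⟩
      · exact ((Scheme.homeoOfIso (asIso ε)).isHomeomorph.topologicalKrullDim_eq).symm.trans
          ((H28Curve.projLine_facts κ).2.2.trans Nat.cast_one)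
      · haveI : Smooth (ε ≫ q) := by
          rw [show ε ≫ q = CohB1.ProjSpace.toSpec 1 κ from hεt]; infer_instance
        rw [show π.fiberToSpecResidueField b = inv ε ≫ (ε ≫ q) by rw [IsIso.inv_hom_id_assoc]]
        infer_instance
      · have hε' : (asIso ε).symm.hom ≫ CohB1.ProjSpace.toSpec 1 κ = q := by
          rw [← hεt, Iso.symm_hom, asIso_inv, IsIso.inv_hom_id_assoc]
        exact (H29DoubleCover.genus_congr (k := κ) (asIso ε).symm hε').trans (H29DoubleCover.genus_projLine κ)
  haveI : Smooth π := Smooth.of_smooth_fiberToSpecResidueField π fun b => (hfacts b).2.2.1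
  haveI : SmoothOfRelativeDimension 1 π :=
    H12Pic.PicCurve.smoothOfRelativeDimension_of_fibres π 1
      (fun b => haveI := (hfacts b).1; inferInstance) (fun b => by rw [(hfacts b).2.1]; rfl)
  obtain ⟨L, hL, eL⟩ := exists_sectionMod π σ hσ
  have h : FibTwist 1 π L Set.univ := FibTwist.of_forall fun b =>
    fibAt_of_section π σ hσ hL eL b (hfacts b).1 (hfacts b).2.1 (hfacts b).2.2.2
  exact ⟨_, L, cou π L, rank_push hL h, isProjBundle hL h⟩

end Groth.Agent.H17.FibProj
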